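import Mathlib
import Cfsg.Prelude.Def_Sporadic_a
import Cfsg.Agent.Helper9.M22Sub.Rank
import Cfsg.Agent.Helper9.L34.Iso
import Cfsg.Agent.Helper7.PSLSimple

set_option autoImplicit false

/-!
A subgroup of order 20160 of the stabilizer of two points in the group of the length-24 code fixes
one of the other 22 points.
-/

namespace Cfsg.Agent.Helper9.HSRec

open Cfsg Cfsg.Agent.Helper9.Golay Cfsg.Agent.Helper9.M22Sub

/-- a simple group of order 20160 has no subgroup of index 7. -/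
theorem no_index_seven {L : Type*} [Group L] [Finite L] [IsSimpleGroup L]
    (hL : Nat.card L = 20160) (S : Subgroup L) : S.index ≠ 7 := by
  intro h7
  have hfi : S.FiniteIndex := ⟨by rw [h7]; norm_num⟩
  let φ : L →* Equiv.Perm (L ⧸ S) := MulAction.toPermHom L (L ⧸ S)
  have hker : φ.ker = S.normalCore := (Subgroup.normalCore_eq_ker S).symm
  rcases (φ.normal_ker).eq_bot_or_eq_top with h | h
  · have hinj : Function.Injective φ := (MonoidHom.ker_eq_bot_iff φ).mp h
    have h1 : Nat.card L ≤ Nat.card (Equiv.Perm (L ⧸ S)) := Nat.card_le_card_of_injective φ hinj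
    have h2 : Nat.card (Equiv.Perm (L ⧸ S)) = (Nat.card (L ⧸ S)).factorial := by
      classical
      have : Fintype (L ⧸ S) := Fintype.ofFinite _
      rw [Nat.card_eq_fintype_card, Nat.card_eq_fintype_card, Fintype.card_perm]
    rw [h2, ← Subgroup.index_eq_card, h7, hL] at h1
    norm_num [Nat.factorial] at h1
  · rw [hker] at h
    have h1 : S = ⊤ := top_unique (h ▸ Subgroup.normalCore_le S)
    rw [h1, Subgroup.index_top] at h7
    norm_num at h7

/-- the stabilizer of three points as a group of permutations. -/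
def K3 (p q r : GolayPt) : Subgroup (Equiv.Perm GolayPt) := M24 ⊓ fixL [p, q, r]

theorem mem_K3 {p q r : GolayPt} {g : Equiv.Perm GolayPt} :
    g ∈ K3 p q r ↔ g ∈ M24 ∧ g p = p ∧ g q = q ∧ g r = r := by
  unfold K3
  rw [Subgroup.mem_inf, mem_fixL]
  simp

/-- the two descriptions of the stabilizer of three points. -/
def k3Equiv (p q r : GolayPt) : ↥(K3 p q r) ≃*
    ↥(MulAction.stabilizer M24 p ⊓ MulAction.stabilizer M24 q ⊓ MulAction.stabilizer M24 r) where
  toFun x := ⟨⟨x.1, (mem_K3.mp x.2).1⟩, by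
    obtain ⟨h0, h1, h2, h3⟩ := mem_K3.mp x.2
    refine Subgroup.mem_inf.mpr ⟨Subgroup.mem_inf.mpr ⟨?_, ?_⟩, ?_⟩ <;>
      rw [MulAction.mem_stabilizer_iff] <;> assumption⟩
  invFun y := ⟨y.1.1, by
    obtain ⟨h12, h3⟩ := Subgroup.mem_inf.mp y.2
    obtain ⟨h1, h2⟩ := Subgroup.mem_inf.mp h12
    rw [MulAction.mem_stabilizer_iff] at h1 h2 h3
    exact mem_K3.mpr ⟨y.1.2, h1, h2, h3⟩⟩
  left_inv _ := rfl
  right_inv _ := rfl
  map_mul' _ _ := rfl

theorem card_K3 {p q r : GolayPt} (hpq : p ≠ q) (hpr : p ≠ r) (hqr : q ≠ r) :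
    Nat.card ↥(K3 p q r) = 20160 := by
  rw [Nat.card_congr (k3Equiv p q r).toEquiv]
  exact card_three_pt_stab hpq hpr hqr

theorem simple_K3 {p q r : GolayPt} (hpq : p ≠ q) (hpr : p ≠ r) (hqr : q ≠ r) :
    IsSimpleGroup ↥(K3 p q r) := by
  obtain ⟨e⟩ := three_pt_stab_psl hpq hpr hqr K4 K4.card
  have : IsSimpleGroup (Matrix.ProjectiveSpecialLinearGroup (Fin 3) K4) :=
    Cfsg.Agent.Helper7.Transv.isSimpleGroup_PSL (le_refl 3)
  exact ((k3Equiv p q r).trans e).isSimpleGroup

/-- the stabilizer of three points has no subgroup of order 2880. -/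
theorem no_sub_2880 {p q r : GolayPt} (hpq : p ≠ q) (hpr : p ≠ r) (hqr : q ≠ r)
    {S : Subgroup (Equiv.Perm GolayPt)} (hS : S ≤ K3 p q r) : Nat.card S ≠ 2880 := by
  intro hc
  have := simple_K3 hpq hpr hqr
  have h1 := Subgroup.card_mul_index (S.subgroupOf (K3 p q r))
  rw [Nat.card_congr (Subgroup.subgroupOfEquivOfLe hS).toEquiv, hc, card_K3 hpq hpr hqr] at h1
  exact no_index_seven (card_K3 hpq hpr hqr) (S.subgroupOf (K3 p q r)) (by omega)

end Cfsg.Agent.Helper9.HSRec
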