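import Mathlib
import Cfsg.Prelude.Def_Sporadic_a
import Cfsg.Agent.Helper9.HSRec.Sub22

set_option autoImplicit false

/-!
A subgroup of order 20160 of the stabilizer of two points in the group of the length-24 code fixes
one of the other 22 points.
-/

namespace Cfsg.Agent.Helper9.HSRec

open Cfsg Cfsg.Agent.Helper9.Golay Cfsg.Agent.Helper9.M22Sub

variable {p q : GolayPt} {H : Subgroup (Equiv.Perm GolayPt)}

theorem exists_order_prime {K : Subgroup (Equiv.Perm GolayPt)} (r : ℕ) [Fact r.Prime]
    (h : r ∣ Nat.card K) : ∃ f ∈ K, orderOf f = r := by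
  obtain ⟨x, hx⟩ := exists_prime_orderOf_dvd_card' r h
  exact ⟨x.1, x.2, by rw [Subgroup.orderOf_coe, hx]⟩

theorem pair_sub_fixF {x : Equiv.Perm GolayPt} (hx : x ∈ G2 p q) :
    ({p, q} : Finset GolayPt) ⊆ fixF x := by
  obtain ⟨-, h1, h2⟩ := mem_G2.mp hx
  intro b hb
  simp only [Finset.mem_insert, Finset.mem_singleton] at hb
  rcases hb with rfl | rfl <;> exact mem_fixF.mpr ‹_›

theorem fixF_sdiff (x : Equiv.Perm GolayPt) :
    fixF x \ {p, q} = (Om p q).filter (fun c => x c = c) := by
  ext c
  simp only [Finset.mem_sdiff, mem_fixF, Finset.mem_insert, Finset.mem_singleton, not_or,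
    Finset.mem_filter, mem_Om]
  tauto

/-- an element of order 7 fixes exactly one of the 22 points. -/
theorem fix_seven (hpq : p ≠ q) {x : Equiv.Perm GolayPt} (hx : x ∈ G2 p q)
    (hord : orderOf x = 7) : ∃ o ∈ Om p q, x o = o ∧ ∀ c ∈ Om p q, x c = c → c = o := by
  have : Fact (Nat.Prime 7) := ⟨by norm_num⟩
  have h1 := card_fixF_le (mem_G2.mp hx).1 hord (by norm_num)
  have h2 := card_fixF_modEq hord
  have h3 := pair_sub_fixF hx
  have h4 := Finset.card_le_card h3
  rw [Finset.card_pair hpq] at h4
  have h6 : (fixF x).card = 3 := by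
    unfold Nat.ModEq at h2
    generalize (fixF x).card = n at *
    interval_cases n <;> omega
  have h7 : ((Om p q).filter (fun c => x c = c)).card = 1 := by
    rw [← fixF_sdiff, Finset.card_sdiff_of_subset h3, h6, Finset.card_pair hpq]
  obtain ⟨o, ho⟩ := Finset.card_eq_one.mp h7
  have ho' : o ∈ (Om p q).filter (fun c => x c = c) := by rw [ho]; exact Finset.mem_singleton_self o
  rw [Finset.mem_filter] at ho'
  refine ⟨o, ho'.1, ho'.2, ?_⟩
  intro c hc hxc
  have : c ∈ (Om p q).filter (fun c => x c = c) := Finset.mem_filter.mpr ⟨hc, hxc⟩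
  rw [ho, Finset.mem_singleton] at this
  exact this

/-- an element of order 5 fixes at most two of the 22 points. -/
theorem fix_five (hpq : p ≠ q) {x : Equiv.Perm GolayPt} (hx : x ∈ G2 p q)
    (hord : orderOf x = 5) : ((Om p q).filter (fun c => x c = c)).card ≤ 2 := by
  have h1 := card_fixF_le (mem_G2.mp hx).1 hord (by norm_num)
  have h3 := pair_sub_fixF hx
  rw [← fixF_sdiff, Finset.card_sdiff_of_subset h3, Finset.card_pair hpq]
  omega

theorem orbF_sub_Om (hH : H ≤ G2 p q) {a : GolayPt} (ha : a ∈ Om p q) : orbF H a ⊆ Om p q := by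
  intro x hx
  obtain ⟨h, hh, rfl⟩ := mem_orbF.mp hx
  exact smul_mem_Om (hH hh) ha

theorem orbF_inv {x : Equiv.Perm GolayPt} (hx : x ∈ H) (a c : GolayPt) :
    c ∈ orbF H a ↔ x c ∈ orbF H a := by
  constructor
  · exact smul_mem_orbF hx
  · intro h
    have := smul_mem_orbF (H.inv_mem hx) h
    simpa using this

theorem fix_of_card (hpq : p ≠ q) (hH : H ≤ G2 p q) (hcard : Nat.card H = 20160) :
    ∃ a ∈ Om p q, ∀ h ∈ H, h a = a := by
  have f7 : Fact (Nat.Prime 7) := ⟨by norm_num⟩
  have f5 : Fact (Nat.Prime 5) := ⟨by norm_num⟩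
  obtain ⟨x7, hx7H, hx7⟩ := exists_order_prime (K := H) 7 (by rw [hcard]; norm_num)
  obtain ⟨x5, hx5H, hx5⟩ := exists_order_prime (K := H) 5 (by rw [hcard]; norm_num)
  obtain ⟨o, hoOm, hxo, hou⟩ := fix_seven hpq (hH hx7H) hx7
  have hpow7 : x7 ^ 7 = 1 := by rw [← hx7]; exact pow_orderOf_eq_one x7
  have hpow5 : x5 ^ 5 = 1 := by rw [← hx5]; exact pow_orderOf_eq_one x5
  have hOsub := orbF_sub_Om hH hoOm
  have hoO : o ∈ orbF H o := self_mem_orbF H o
  -- the orbit of `o` has size 1 modulo 7
  have h7 : 7 ∣ ((orbF H o).erase o).card := by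
    apply dvd_card_of_no_fixed hpow7
    · intro c
      rw [Finset.mem_erase, Finset.mem_erase, ← orbF_inv hx7H]
      constructor
      · rintro ⟨h1, h2⟩
        refine ⟨fun h => h1 ?_, h2⟩
        apply x7.injective
        rw [h, hxo]
      · rintro ⟨h1, h2⟩
        refine ⟨fun h => h1 ?_, h2⟩
        rw [h, hxo]
    · intro y hy hfix
      rw [Finset.mem_erase] at hy
      exact hy.1 (hou y (hOsub hy.2) hfix)
  rw [Finset.card_erase_of_mem hoO] at h7
  have hmul := card_eq_orbF_mul H o
  rw [hcard] at hmul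
  have hle : (orbF H o).card ≤ 22 := by
    have := Finset.card_le_card hOsub
    rwa [card_Om hpq] at this
  have hpos : 0 < (orbF H o).card := Finset.card_pos.mpr ⟨o, hoO⟩
  have hdvd : (orbF H o).card ∣ 20160 := ⟨_, hmul⟩
  have hcases : (orbF H o).card = 1 ∨ (orbF H o).card = 8 ∨ (orbF H o).card = 15 := by
    generalize (orbF H o).card = n at *
    interval_cases n <;> omega
  rcases hcases with h1 | h8 | h15
  · -- a fixed point
    refine ⟨o, hoOm, ?_⟩
    intro h hh
    obtain ⟨z, hz⟩ := Finset.card_eq_one.mp h1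
    have e1 : o = z := by
      have := hoO
      rw [hz, Finset.mem_singleton] at this
      exact this
    have e2 : h o = z := by
      have := smul_mem_orbF hh hoO
      rw [hz, Finset.mem_singleton] at this
      exact this
    rw [e2, e1]
  · -- size 8 is impossible because of the element of order 5
    exfalso
    have h5 : 5 ∣ ((orbF H o).filter (fun c => ¬ x5 c = c)).card := by
      apply dvd_card_of_no_fixed hpow5
      · intro c
        rw [Finset.mem_filter, Finset.mem_filter, ← orbF_inv hx5H]
        constructor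
        · rintro ⟨h1, h2⟩
          exact ⟨h1, fun h => h2 (x5.injective h)⟩
        · rintro ⟨h1, h2⟩
          exact ⟨h1, fun h => h2 (by rw [h, h])⟩
      · intro y hy
        exact (Finset.mem_filter.mp hy).2
    have h2 := fix_five hpq (hH hx5H) hx5
    have h3 : ((orbF H o).filter (fun c => x5 c = c)).card ≤
        ((Om p q).filter (fun c => x5 c = c)).card :=
      Finset.card_le_card (Finset.filter_subset_filter _ hOsub)
    have h4 := Finset.card_filter_add_card_filter_not (s := orbF H o) (fun c => x5 c = c)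
    rw [h8] at h4
    omega
  · -- size 15 leaves an orbit of size 7
    exfalso
    have hO' : (Om p q \ orbF H o).card = 7 := by
      rw [Finset.card_sdiff_of_subset hOsub, card_Om hpq, h15]
    obtain ⟨y, hy⟩ : (Om p q \ orbF H o).Nonempty := by
      rw [← Finset.card_pos, hO']
      norm_num
    rw [Finset.mem_sdiff] at hy
    have hysub : orbF H y ⊆ Om p q \ orbF H o := by
      intro z hz
      rw [Finset.mem_sdiff]
      refine ⟨orbF_sub_Om hH hy.1 hz, ?_⟩
      intro hzo
      apply hy.2
      rw [← orbF_eq_of_mem hzo, orbF_eq_of_mem hz]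
      exact self_mem_orbF H y
    have h7y : 7 ∣ (orbF H y).card := by
      apply dvd_card_of_no_fixed hpow7
      · intro c
        exact orbF_inv hx7H y c
      · intro z hz hfix
        have hz' := Finset.mem_sdiff.mp (hysub hz)
        have := hou z hz'.1 hfix
        rw [this] at hz'
        exact hz'.2 hoO
    have hyle : (orbF H y).card ≤ 7 := by
      have := Finset.card_le_card hysub
      rwa [hO'] at this
    have hypos : 0 < (orbF H y).card := Finset.card_pos.mpr ⟨y, self_mem_orbF H y⟩
    have hy7 : (orbF H y).card = 7 := by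
      obtain ⟨k, hk⟩ := h7y
      have : k = 1 := by
        rcases k with _ | _ | k
        · omega
        · rfl
        · omega
      rw [hk, this]
    have hmuly := card_eq_orbF_mul H y
    rw [hcard, hy7] at hmuly
    have hy' := mem_Om.mp hy.1
    refine no_sub_2880 hpq hy'.1.symm hy'.2.symm (S := H ⊓ St y) ?_ (by omega)
    intro g hg
    rw [Subgroup.mem_inf, mem_St] at hg
    obtain ⟨h0, h1, h2⟩ := mem_G2.mp (hH hg.1)
    exact mem_K3.mpr ⟨h0, h1, h2, hg.2⟩

end Cfsg.Agent.Helper9.HSRec
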