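import Mathlib
import Cfsg.Prelude.Def_Spor_Mathieu
import Cfsg.Agent.Helper9.HSRec.Sub22b
import Cfsg.Agent.Helper9.Out.M22Out
import Cfsg.Agent.Helper9.Golay.ListTrans

set_option autoImplicit false

/-!
The stabilizer of two points in the group of the length-24 code: a subgroup of index 22 has exactly
two double cosets.
-/

namespace Cfsg.Agent.Helper9.HSRec

open Cfsg Cfsg.Agent.Helper9.Golay Cfsg.Agent.Helper9.M22Sub

/-- every subgroup of index `n` has exactly two double cosets. -/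
def DC (M : Type*) [Group M] (n : ℕ) : Prop :=
  ∀ K : Subgroup M, K.index = n → ∀ m m' : M, m ∉ K → m' ∉ K →
    ∃ k ∈ K, ∃ k' ∈ K, m' = k * m * k'

theorem DC.of_equiv {M N : Type*} [Group M] [Group N] (e : N ≃* M) {n : ℕ} (h : DC M n) :
    DC N n := by
  intro K hK m m' hm hm'
  have hidx : (K.map e.toMonoidHom).index = n := by
    rw [Subgroup.index_map_of_bijective e.bijective, hK]
  have hmem : ∀ x : N, e x ∈ K.map e.toMonoidHom ↔ x ∈ K := by
    intro x
    exact Subgroup.mem_map_iff_mem e.injective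
  obtain ⟨k, hk, k', hk', hkk⟩ := h (K.map e.toMonoidHom) hidx (e m) (e m')
    (fun hc => hm ((hmem m).mp hc)) (fun hc => hm' ((hmem m').mp hc))
  refine ⟨e.symm k, ?_, e.symm k', ?_, ?_⟩
  · rw [← hmem, e.apply_symm_apply]; exact hk
  · rw [← hmem, e.apply_symm_apply]; exact hk'
  · apply e.injective
    rw [map_mul, map_mul, e.apply_symm_apply, e.apply_symm_apply]
    exact hkk

theorem M22_eq_G2 : Spor.M22 = G2 none (some 0) := by
  ext x
  rw [mem_M22_iff, mem_G2]

theorem card_G2_std : Nat.card ↥(G2 none (some 0)) = 443520 := by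
  rw [← M22_eq_G2]
  exact Cfsg.Agent.Helper9.OutM22.card_M22

theorem dc_M22 : DC ↥Spor.M22 22 := by
  intro K hK m m' hm hm'
  have hpq : (none : GolayPt) ≠ some 0 := by simp
  set H : Subgroup (Equiv.Perm GolayPt) := K.map Spor.M22.subtype with hHdef
  have hmemH : ∀ x : ↥Spor.M22, (x : Equiv.Perm GolayPt) ∈ H ↔ x ∈ K := by
    intro x
    exact Subgroup.mem_map_iff_mem Subtype.val_injective
  have hcardK : Nat.card K = 20160 := by
    have h1 := Subgroup.card_mul_index K
    rw [hK, Cfsg.Agent.Helper9.OutM22.card_M22] at h1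
    omega
  have hcardH : Nat.card H = 20160 := by
    rw [← hcardK]
    exact Nat.card_congr (K.equivMapOfInjective Spor.M22.subtype Subtype.val_injective).toEquiv.symm
  have hHle : H ≤ G2 none (some 0) := by
    rintro x ⟨y, -, rfl⟩
    rw [← M22_eq_G2]
    exact y.2
  obtain ⟨a, haOm, hfix⟩ := fix_of_card hpq hHle hcardH
  have ha' := mem_Om.mp haOm
  -- the orbit of `a` is everything
  have horb : orbF (G2 none (some 0)) a = Om none (some 0) := by
    apply Finset.Subset.antisymm (orbF_sub_Om le_rfl haOm)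
    intro c hc
    have hc' := mem_Om.mp hc
    obtain ⟨g, hg, hmap⟩ := m24_map_list [none, some 0, a] [none, some 0, c]
      (by simp only [List.nodup_cons, List.mem_cons, List.not_mem_nil, or_false, not_or,
            List.nodup_nil, and_true, not_false_eq_true]
          exact ⟨⟨hpq, ha'.1.symm⟩, ha'.2.symm⟩)
      (by simp only [List.nodup_cons, List.mem_cons, List.not_mem_nil, or_false, not_or,
            List.nodup_nil, and_true, not_false_eq_true]
          exact ⟨⟨hpq, hc'.1.symm⟩, hc'.2.symm⟩) rfl (by simp)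
    simp only [List.map_cons, List.map_nil, List.cons.injEq, and_true] at hmap
    exact mem_orbF.mpr ⟨g, mem_G2.mpr ⟨hg, hmap.1, hmap.2.1⟩, hmap.2.2⟩
  have hstab : Nat.card (G2 none (some 0) ⊓ St a : Subgroup (Equiv.Perm GolayPt)) = 20160 := by
    have h1 := card_eq_orbF_mul (G2 none (some 0)) a
    rw [horb, card_Om hpq, card_G2_std] at h1
    omega
  have hHeq : H = G2 none (some 0) ⊓ St a := by
    have : Finite ↥(G2 none (some 0) ⊓ St a : Subgroup (Equiv.Perm GolayPt)) := inferInstance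
    apply Subgroup.eq_of_le_of_card_ge
    · intro x hx
      exact Subgroup.mem_inf.mpr ⟨hHle hx, mem_St.mpr (hfix x hx)⟩
    · rw [hstab, hcardH]
  have hiff : ∀ x : ↥Spor.M22, x ∈ K ↔ (x : Equiv.Perm GolayPt) a = a := by
    intro x
    rw [← hmemH, hHeq, Subgroup.mem_inf, mem_St]
    constructor
    · exact fun h => h.2
    · intro h
      refine ⟨?_, h⟩
      rw [← M22_eq_G2]
      exact x.2
  have hma : (m : Equiv.Perm GolayPt) a ≠ a := fun h => hm ((hiff m).mpr h)
  have hma' : (m' : Equiv.Perm GolayPt) a ≠ a := fun h => hm' ((hiff m').mpr h)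
  have hmOm : (m : Equiv.Perm GolayPt) a ∈ Om none (some 0) :=
    smul_mem_Om (M22_eq_G2 ▸ m.2) haOm
  have hmOm' : (m' : Equiv.Perm GolayPt) a ∈ Om none (some 0) :=
    smul_mem_Om (M22_eq_G2 ▸ m'.2) haOm
  have h1 := mem_Om.mp hmOm
  have h2 := mem_Om.mp hmOm'
  obtain ⟨g, hg, hmap⟩ := m24_map_list [none, some 0, a, (m : Equiv.Perm GolayPt) a]
      [none, some 0, a, (m' : Equiv.Perm GolayPt) a]
      (by simp only [List.nodup_cons, List.mem_cons, List.not_mem_nil, or_false, not_or,
            List.nodup_nil, and_true, not_false_eq_true]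
          exact ⟨⟨hpq, ha'.1.symm, h1.1.symm⟩, ⟨ha'.2.symm, h1.2.symm⟩, hma.symm⟩)
      (by simp only [List.nodup_cons, List.mem_cons, List.not_mem_nil, or_false, not_or,
            List.nodup_nil, and_true, not_false_eq_true]
          exact ⟨⟨hpq, ha'.1.symm, h2.1.symm⟩, ⟨ha'.2.symm, h2.2.symm⟩, hma'.symm⟩) rfl (by simp)
  simp only [List.map_cons, List.map_nil, List.cons.injEq, and_true] at hmap
  have hgM : g ∈ Spor.M22 := mem_M22_iff.mpr ⟨hg, hmap.1, hmap.2.1⟩
  set k : ↥Spor.M22 := ⟨g, hgM⟩ with hk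
  have hkK : k ∈ K := (hiff k).mpr hmap.2.2.1
  have hk2 : m'⁻¹ * k * m ∈ K := by
    rw [hiff]
    show ((m'⁻¹ * k * m : ↥Spor.M22) : Equiv.Perm GolayPt) a = a
    rw [Subgroup.coe_mul, Subgroup.coe_mul, Subgroup.coe_inv, Equiv.Perm.mul_apply,
      Equiv.Perm.mul_apply]
    show (m' : Equiv.Perm GolayPt)⁻¹ (g ((m : Equiv.Perm GolayPt) a)) = a
    rw [hmap.2.2.2, Equiv.Perm.inv_def, Equiv.symm_apply_apply]
  refine ⟨k, hkK, (m'⁻¹ * k * m)⁻¹, K.inv_mem hk2, ?_⟩
  group

end Cfsg.Agent.Helper9.HSRec
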