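import Mathlib
import Cfsg.Agent.Helper9.M22Sub.Orbit

set_option autoImplicit false

/-!
A transitive permutation group of degree 100 whose point stabilizer has orbits of sizes 1, 22, 77
and is doubly transitive on the orbit of size 22: the orbital graph.
-/

namespace Cfsg.Agent.Helper9.HSRec

open Cfsg.Agent.Helper9.M22Sub
open Finset

variable {Ω : Type*} [Fintype Ω] [DecidableEq Ω]

/-- the stabilizer of a point in a group of permutations. -/
def stabP (G : Subgroup (Equiv.Perm Ω)) (a : Ω) : Subgroup (Equiv.Perm Ω) :=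
  G ⊓ MulAction.stabilizer (Equiv.Perm Ω) a

theorem mem_stabP {G : Subgroup (Equiv.Perm Ω)} {a : Ω} {g : Equiv.Perm Ω} :
    g ∈ stabP G a ↔ g ∈ G ∧ g a = a := by
  unfold stabP
  rw [Subgroup.mem_inf, MulAction.mem_stabilizer_iff, Equiv.Perm.smul_def]

/-- the hypotheses. -/
structure R3 (G : Subgroup (Equiv.Perm Ω)) (a b c : Ω) : Prop where
  card : Fintype.card Ω = 100
  trans : ∀ x y : Ω, ∃ g ∈ G, g x = y
  cb : (orbF (stabP G a) b).card = 22
  cc : (orbF (stabP G a) c).card = 77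
  two : ∀ y y', y ∈ orbF (stabP G a) b → y' ∈ orbF (stabP G a) b → y ≠ b → y' ≠ b →
    ∃ h ∈ G, h a = a ∧ h b = b ∧ h y = y'

/-- the orbital of the pair `(a, b)`. -/
def adjR (G : Subgroup (Equiv.Perm Ω)) (a b x y : Ω) : Prop := ∃ g ∈ G, g a = x ∧ g b = y

/-- the out-neighbours. -/
noncomputable def nb (G : Subgroup (Equiv.Perm Ω)) (a b x : Ω) : Finset Ω := by
  classical exact univ.filter (fun y => adjR G a b x y)

theorem mem_nb {G : Subgroup (Equiv.Perm Ω)} {a b x y : Ω} : y ∈ nb G a b x ↔ adjR G a b x y := by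
  simp [nb]

theorem inv_apply' (g : Equiv.Perm Ω) (x : Ω) : g⁻¹ (g x) = x := by
  rw [Equiv.Perm.inv_def, Equiv.symm_apply_apply]

theorem apply_inv' (g : Equiv.Perm Ω) (x : Ω) : g (g⁻¹ x) = x := by
  rw [Equiv.Perm.inv_def, Equiv.apply_symm_apply]

section

variable {G : Subgroup (Equiv.Perm Ω)} {a b c : Ω}

theorem adjR_smul {g : Equiv.Perm Ω} (hg : g ∈ G) {x y : Ω} :
    adjR G a b (g x) (g y) ↔ adjR G a b x y := by
  constructor
  · rintro ⟨k, hk, h1, h2⟩
    refine ⟨g⁻¹ * k, G.mul_mem (G.inv_mem hg) hk, ?_, ?_⟩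
    · rw [Equiv.Perm.mul_apply, h1, inv_apply']
    · rw [Equiv.Perm.mul_apply, h2, inv_apply']
  · rintro ⟨k, hk, h1, h2⟩
    refine ⟨g * k, G.mul_mem hg hk, ?_, ?_⟩
    · rw [Equiv.Perm.mul_apply, h1]
    · rw [Equiv.Perm.mul_apply, h2]

theorem nb_smul {g : Equiv.Perm Ω} (hg : g ∈ G) (x : Ω) :
    nb G a b (g x) = (nb G a b x).image g := by
  ext y
  rw [mem_nb, mem_image]
  constructor
  · intro h
    refine ⟨g⁻¹ y, ?_, apply_inv' g y⟩
    rw [mem_nb, ← adjR_smul hg, apply_inv']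
    exact h
  · rintro ⟨z, hz, rfl⟩
    rw [adjR_smul hg]
    exact mem_nb.mp hz

theorem nb_base : nb G a b a = orbF (stabP G a) b := by
  ext y
  rw [mem_nb, mem_orbF]
  constructor
  · rintro ⟨g, hg, h1, h2⟩
    exact ⟨g, mem_stabP.mpr ⟨hg, h1⟩, h2⟩
  · rintro ⟨g, hg, h2⟩
    exact ⟨g, (mem_stabP.mp hg).1, (mem_stabP.mp hg).2, h2⟩

variable (h : R3 G a b c)
include h

theorem R3.b_ne : b ≠ a := by
  intro hba
  have h1 : orbF (stabP G a) b ⊆ {a} := by
    intro x hx
    obtain ⟨g, hg, rfl⟩ := mem_orbF.mp hx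
    rw [mem_singleton, hba]
    exact (mem_stabP.mp hg).2
  have := card_le_card h1
  rw [h.cb, card_singleton] at this
  omega

theorem R3.c_ne : c ≠ a := by
  intro hca
  have h1 : orbF (stabP G a) c ⊆ {a} := by
    intro x hx
    obtain ⟨g, hg, rfl⟩ := mem_orbF.mp hx
    rw [mem_singleton, hca]
    exact (mem_stabP.mp hg).2
  have := card_le_card h1
  rw [h.cc, card_singleton] at this
  omega

theorem R3.a_notMem_b : a ∉ orbF (stabP G a) b := by
  intro ha
  obtain ⟨g, hg, hgb⟩ := mem_orbF.mp ha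
  apply h.b_ne
  apply g.injective
  rw [hgb, (mem_stabP.mp hg).2]

theorem R3.a_notMem_c : a ∉ orbF (stabP G a) c := by
  intro ha
  obtain ⟨g, hg, hgb⟩ := mem_orbF.mp ha
  apply h.c_ne
  apply g.injective
  rw [hgb, (mem_stabP.mp hg).2]

theorem R3.disj : Disjoint (orbF (stabP G a) b) (orbF (stabP G a) c) := by
  rw [disjoint_left]
  intro z hz1 hz2
  have e1 := orbF_eq_of_mem hz1
  have e2 := orbF_eq_of_mem hz2
  have : (orbF (stabP G a) b).card = (orbF (stabP G a) c).card := by rw [← e1, ← e2]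
  rw [h.cb, h.cc] at this
  omega

theorem R3.cases (z : Ω) : z = a ∨ z ∈ orbF (stabP G a) b ∨ z ∈ orbF (stabP G a) c := by
  have h1 : (insert a (orbF (stabP G a) b ∪ orbF (stabP G a) c)).card = 100 := by
    rw [card_insert_of_notMem, card_union_of_disjoint h.disj, h.cb, h.cc]
    rw [mem_union, not_or]
    exact ⟨h.a_notMem_b, h.a_notMem_c⟩
  have h2 : insert a (orbF (stabP G a) b ∪ orbF (stabP G a) c) = univ := by
    apply eq_univ_of_card
    rw [h1, h.card]
  have := mem_univ z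
  rw [← h2, mem_insert, mem_union] at this
  exact this

theorem R3.irrefl (x : Ω) : ¬ adjR G a b x x := by
  rintro ⟨g, -, h1, h2⟩
  apply h.b_ne
  apply g.injective
  rw [h1, h2]

theorem R3.card_nb (x : Ω) : (nb G a b x).card = 22 := by
  obtain ⟨g, hg, rfl⟩ := h.trans a x
  rw [nb_smul hg, card_image_of_injective _ g.injective, nb_base, h.cb]

end

end Cfsg.Agent.Helper9.HSRec
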