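import Mathlib
import Cfsg.Agent.Helper9.HSRec.Rank3

set_option autoImplicit false

/-!
The orbital graph is undirected.
-/

namespace Cfsg.Agent.Helper9.HSRec

open Cfsg.Agent.Helper9.M22Sub
open Finset

variable {Ω : Type*} [Fintype Ω] [DecidableEq Ω]

/-- the in-neighbours. -/
noncomputable def nbIn (G : Subgroup (Equiv.Perm Ω)) (a b y : Ω) : Finset Ω := by
  classical exact univ.filter (fun x => adjR G a b x y)

theorem mem_nbIn {G : Subgroup (Equiv.Perm Ω)} {a b x y : Ω} :
    x ∈ nbIn G a b y ↔ adjR G a b x y := by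
  simp [nbIn]

variable {G : Subgroup (Equiv.Perm Ω)} {a b c : Ω}

theorem nbIn_smul {g : Equiv.Perm Ω} (hg : g ∈ G) (y : Ω) :
    nbIn G a b (g y) = (nbIn G a b y).image g := by
  ext x
  rw [mem_nbIn, mem_image]
  constructor
  · intro h
    refine ⟨g⁻¹ x, ?_, apply_inv' g x⟩
    rw [mem_nbIn, ← adjR_smul hg, apply_inv']
    exact h
  · rintro ⟨z, hz, rfl⟩
    rw [adjR_smul hg]
    exact mem_nbIn.mp hz

variable (h : R3 G a b c)
include h

theorem R3.card_nbIn (y : Ω) : (nbIn G a b y).card = 22 := by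
  classical
  have hconst : ∀ y : Ω, (nbIn G a b y).card = (nbIn G a b a).card := by
    intro y
    obtain ⟨g, hg, rfl⟩ := h.trans a y
    rw [nbIn_smul hg, card_image_of_injective _ g.injective]
  have hdc := sum_card_bipartiteAbove_eq_sum_card_bipartiteBelow (s := (univ : Finset Ω))
    (t := (univ : Finset Ω)) (r := adjR G a b)
  have e1 : ∀ x : Ω, (univ : Finset Ω).bipartiteAbove (adjR G a b) x = nb G a b x := by
    intro x
    ext y
    simp [bipartiteAbove, mem_nb]
  have e2 : ∀ y : Ω, (univ : Finset Ω).bipartiteBelow (adjR G a b) y = nbIn G a b y := by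
    intro y
    ext x
    simp [bipartiteBelow, mem_nbIn]
  simp only [e1, e2, h.card_nb, hconst, sum_const, card_univ, h.card, smul_eq_mul] at hdc
  rw [hconst]
  omega

theorem R3.nbIn_orbit {x x' : Ω} (hx : x ∈ nbIn G a b a) (hx' : x' ∈ nbIn G a b a) :
    x' ∈ orbF (stabP G a) x := by
  obtain ⟨g, hg, h1, h2⟩ := mem_nbIn.mp hx
  obtain ⟨g', hg', h1', h2'⟩ := mem_nbIn.mp hx'
  refine mem_orbF.mpr ⟨g' * g⁻¹, mem_stabP.mpr ⟨G.mul_mem hg' (G.inv_mem hg), ?_⟩, ?_⟩
  · have e : g⁻¹ a = b := by rw [← h2, inv_apply']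
    rw [Equiv.Perm.mul_apply, e, h2']
  · have e : g⁻¹ x = a := by rw [← h1, inv_apply']
    rw [Equiv.Perm.mul_apply, e, h1']

theorem R3.adj_b_a : adjR G a b b a := by
  obtain ⟨x0, hx0⟩ : (nbIn G a b a).Nonempty := by
    rw [← card_pos, h.card_nbIn]
    norm_num
  have hsub : nbIn G a b a ⊆ orbF (stabP G a) x0 := fun x hx => h.nbIn_orbit hx0 hx
  have hx0a : x0 ≠ a := by
    rintro rfl
    exact h.irrefl x0 (mem_nbIn.mp hx0)
  rcases h.cases x0 with h0 | h0 | h0
  · exact absurd h0 hx0a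
  · -- the in-neighbours are the orbit of `b`
    rw [orbF_eq_of_mem h0] at hsub
    have heq : nbIn G a b a = orbF (stabP G a) b := by
      apply eq_of_subset_of_card_le hsub
      rw [h.card_nbIn, h.cb]
    have : b ∈ nbIn G a b a := by
      rw [heq]
      exact self_mem_orbF _ b
    exact mem_nbIn.mp this
  · exfalso
    rw [orbF_eq_of_mem h0] at hsub
    -- the in-neighbours would be a union of orbits inside the orbit of `c`
    have hx0' : orbF (stabP G a) x0 ⊆ nbIn G a b a := by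
      intro z hz
      obtain ⟨k, hk, rfl⟩ := mem_orbF.mp hz
      have hk' := mem_stabP.mp hk
      have := (adjR_smul (a := a) (b := b) hk'.1 (x := x0) (y := a)).mpr (mem_nbIn.mp hx0)
      rw [hk'.2] at this
      exact mem_nbIn.mpr this
    rw [orbF_eq_of_mem h0] at hx0'
    have := card_le_card hx0'
    rw [h.card_nbIn, h.cc] at this
    omega

theorem R3.symm {x y : Ω} (hxy : adjR G a b x y) : adjR G a b y x := by
  obtain ⟨g, hg, rfl, rfl⟩ := hxy
  exact (adjR_smul hg).mpr h.adj_b_a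

end Cfsg.Agent.Helper9.HSRec
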