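import Mathlib
import Cfsg.Agent.Helper9.HSRec.Rank3b

set_option autoImplicit false

/-!
The parameters of the orbital graph: adjacent vertices have no common neighbour, non-adjacent ones
have six.
-/

namespace Cfsg.Agent.Helper9.HSRec

open Cfsg.Agent.Helper9.M22Sub
open Finset

variable {Ω : Type*} [Fintype Ω] [DecidableEq Ω]

/-- the closed neighbourhood. -/
noncomputable def cl (G : Subgroup (Equiv.Perm Ω)) (a b z : Ω) : Finset Ω := insert z (nb G a b z)

variable {G : Subgroup (Equiv.Perm Ω)} {a b c : Ω}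

theorem cl_smul {g : Equiv.Perm Ω} (hg : g ∈ G) (z : Ω) :
    cl G a b (g z) = (cl G a b z).image g := by
  rw [cl, nb_smul hg, cl, image_insert]

variable (h : R3 G a b c)
include h

theorem R3.lambda_zero : nb G a b a ∩ nb G a b b = ∅ := by
  by_contra hne
  obtain ⟨z, hz⟩ := nonempty_iff_ne_empty.mpr hne
  rw [mem_inter, nb_base, mem_nb] at hz
  obtain ⟨hz1, hz2⟩ := hz
  have hzb : z ≠ b := by
    rintro rfl
    exact h.irrefl z hz2
  have s1 : ∀ y ∈ orbF (stabP G a) b, y ≠ b → adjR G a b b y := by
    intro y hy hyb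
    obtain ⟨k, hk, hka, hkb, hkz⟩ := h.two z y hz1 hy hzb hyb
    have := (adjR_smul (a := a) (b := b) hk (x := b) (y := z)).mpr hz2
    rwa [hkb, hkz] at this
  have s2 : ∀ x ∈ orbF (stabP G a) b, ∀ y ∈ orbF (stabP G a) b, x ≠ y → adjR G a b x y := by
    intro x hx y hy hxy
    obtain ⟨k, hk, rfl⟩ := mem_orbF.mp hx
    have hk' := mem_stabP.mp hk
    have hy' : k⁻¹ y ∈ orbF (stabP G a) b := smul_mem_orbF ((stabP G a).inv_mem hk) hy
    have hne' : k⁻¹ y ≠ b := by
      intro e
      apply hxy
      rw [← e, apply_inv']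
    have := (adjR_smul (a := a) (b := b) hk'.1 (x := b) (y := k⁻¹ y)).mpr (s1 _ hy' hne')
    rwa [apply_inv'] at this
  set K : Finset Ω := insert a (orbF (stabP G a) b) with hK
  have hKcard : K.card = 23 := by
    rw [hK, card_insert_of_notMem h.a_notMem_b, h.cb]
  have s3 : ∀ x ∈ K, ∀ y ∈ K, x ≠ y → adjR G a b x y := by
    intro x hx y hy hxy
    rw [hK, mem_insert] at hx hy
    rcases hx with rfl | hx <;> rcases hy with rfl | hy
    · exact absurd rfl hxy
    · rw [← mem_nb, nb_base]; exact hy
    · apply h.symm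
      rw [← mem_nb, nb_base]; exact hx
    · exact s2 x hx y hy hxy
  have s4 : ∀ x ∈ K, cl G a b x = K := by
    intro x hx
    have hsub : K.erase x ⊆ nb G a b x := fun y hy =>
      mem_nb.mpr (s3 x hx y (mem_of_mem_erase hy) (ne_of_mem_erase hy).symm)
    have heq : K.erase x = nb G a b x :=
      eq_of_subset_of_card_le hsub (by rw [h.card_nb, card_erase_of_mem hx, hKcard])
    rw [cl, ← heq, insert_erase hx]
  have hclA : cl G a b a = K := s4 a (mem_insert_self _ _)
  have s5 : ∀ z x, x ∈ cl G a b z → cl G a b x = cl G a b z := by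
    intro z x hx
    obtain ⟨g, hg, rfl⟩ := h.trans a z
    rw [cl_smul hg, mem_image] at hx
    obtain ⟨u, hu, rfl⟩ := hx
    rw [cl_smul hg, cl_smul hg, s4 u (hclA ▸ hu), hclA]
  have hfib : ∀ B ∈ (univ : Finset Ω).image (cl G a b),
      ((univ : Finset Ω).filter (fun z => cl G a b z = B)).card = 23 := by
    intro B hB
    obtain ⟨z0, -, rfl⟩ := mem_image.mp hB
    have : (univ : Finset Ω).filter (fun z => cl G a b z = cl G a b z0) = cl G a b z0 := by
      ext z
      rw [mem_filter]
      constructor
      · rintro ⟨-, e⟩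
        rw [← e]
        exact mem_insert_self _ _
      · intro hz
        exact ⟨mem_univ _, s5 z0 z hz⟩
    rw [this, cl, card_insert_of_notMem (fun hc => h.irrefl z0 (mem_nb.mp hc)), h.card_nb]
  have hsum := card_eq_sum_card_fiberwise (f := cl G a b) (s := (univ : Finset Ω))
    (t := (univ : Finset Ω).image (cl G a b)) (fun x _ => mem_image_of_mem _ (mem_univ x))
  rw [sum_congr rfl hfib, sum_const, card_univ, h.card, smul_eq_mul] at hsum
  omega

theorem R3.lambda_zero' {x y : Ω} (hxy : adjR G a b x y) : nb G a b x ∩ nb G a b y = ∅ := by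
  obtain ⟨g, hg, rfl, rfl⟩ := hxy
  rw [nb_smul hg, nb_smul hg, ← image_inter _ _ g.injective, h.lambda_zero, image_empty]

theorem R3.mu_const {y : Ω} (hy : y ∈ orbF (stabP G a) c) :
    (nb G a b a ∩ nb G a b y).card = (nb G a b a ∩ nb G a b c).card := by
  obtain ⟨k, hk, rfl⟩ := mem_orbF.mp hy
  have hk' := mem_stabP.mp hk
  have e : nb G a b a = (nb G a b a).image k := by
    have := nb_smul (a := a) (b := b) hk'.1 a
    rwa [hk'.2] at this
  rw [nb_smul hk'.1 c]
  conv_lhs => rw [e]
  rw [← image_inter _ _ k.injective, card_image_of_injective _ k.injective]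

theorem R3.mu_six : (nb G a b a ∩ nb G a b c).card = 6 := by
  classical
  have hdc := sum_card_bipartiteAbove_eq_sum_card_bipartiteBelow (s := orbF (stabP G a) b)
    (t := orbF (stabP G a) c) (r := adjR G a b)
  have e1 : ∀ x ∈ orbF (stabP G a) b,
      ((orbF (stabP G a) c).bipartiteAbove (adjR G a b) x).card = 21 := by
    intro x hx
    have hax : adjR G a b a x := by rw [← mem_nb, nb_base]; exact hx
    have hxa : a ∈ nb G a b x := mem_nb.mpr (h.symm hax)
    have hl := h.lambda_zero' hax
    have hset : nb G a b x = insert a ((orbF (stabP G a) c).bipartiteAbove (adjR G a b) x) := by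
      ext y
      rw [mem_insert, bipartiteAbove, mem_filter]
      constructor
      · intro hy
        rcases h.cases y with rfl | hy' | hy'
        · exact Or.inl rfl
        · exfalso
          have : y ∈ nb G a b a ∩ nb G a b x := mem_inter.mpr ⟨by rw [nb_base]; exact hy', hy⟩
          rw [hl] at this
          exact absurd this (notMem_empty _)
        · exact Or.inr ⟨hy', mem_nb.mp hy⟩
      · rintro (rfl | ⟨-, hy⟩)
        · exact hxa
        · exact mem_nb.mpr hy
    have hnot : a ∉ (orbF (stabP G a) c).bipartiteAbove (adjR G a b) x := by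
      rw [bipartiteAbove, mem_filter]
      exact fun hc => h.a_notMem_c hc.1
    have := h.card_nb x
    rw [hset, card_insert_of_notMem hnot] at this
    omega
  have e2 : ∀ y ∈ orbF (stabP G a) c,
      ((orbF (stabP G a) b).bipartiteBelow (adjR G a b) y).card =
        (nb G a b a ∩ nb G a b c).card := by
    intro y hy
    rw [← h.mu_const hy]
    congr 1
    ext x
    rw [bipartiteBelow, mem_filter, mem_inter, nb_base, mem_nb]
    constructor
    · rintro ⟨h1, h2⟩
      exact ⟨h1, h.symm h2⟩
    · rintro ⟨h1, h2⟩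
      exact ⟨h1, h.symm h2⟩
  rw [sum_congr rfl e1, sum_congr rfl e2, sum_const, sum_const, h.cb, h.cc, smul_eq_mul,
    smul_eq_mul] at hdc
  omega

theorem R3.mu_six' {x y : Ω} (hne : x ≠ y) (hxy : ¬ adjR G a b x y) :
    (nb G a b x ∩ nb G a b y).card = 6 := by
  obtain ⟨g, hg, rfl⟩ := h.trans a x
  have hy : g⁻¹ y ∈ orbF (stabP G a) c := by
    rcases h.cases (g⁻¹ y) with h0 | h0 | h0
    · exfalso
      apply hne
      rw [← h0, apply_inv']
    · exfalso
      apply hxy
      rw [← nb_base, mem_nb] at h0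
      have := (adjR_smul (a := a) (b := b) hg).mpr h0
      rwa [apply_inv'] at this
    · exact h0
  have e : y = g (g⁻¹ y) := (apply_inv' g y).symm
  rw [e, nb_smul hg, nb_smul hg, ← image_inter _ _ g.injective,
    card_image_of_injective _ g.injective, h.mu_const hy, h.mu_six]

end Cfsg.Agent.Helper9.HSRec
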