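import Mathlib
import Cfsg.Agent.Helper9.HSRec.Rank3c
import Cfsg.Agent.Helper9.SRG.Count

set_option autoImplicit false

/-!
The orbital graph as a simple graph, and the group as a group of automorphisms of it.
-/

namespace Cfsg.Agent.Helper9.HSRec

open Cfsg.Agent.Helper9.M22Sub
open Finset

variable {Ω : Type*} [Fintype Ω] [DecidableEq Ω]

/-- the orbital graph. -/
def gr (G : Subgroup (Equiv.Perm Ω)) (a b : Ω) : SimpleGraph Ω := SimpleGraph.fromRel (adjR G a b)

variable {G : Subgroup (Equiv.Perm Ω)} {a b c : Ω}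

theorem R3.gr_adj (h : R3 G a b c) {x y : Ω} : (gr G a b).Adj x y ↔ adjR G a b x y := by
  rw [gr, SimpleGraph.fromRel_adj]
  constructor
  · rintro ⟨-, h1 | h1⟩
    · exact h1
    · exact h.symm h1
  · intro h1
    refine ⟨?_, Or.inl h1⟩
    rintro rfl
    exact h.irrefl x h1

theorem R3.facts (h : R3 G a b c) [DecidableRel (gr G a b).Adj] :
    Cfsg.Agent.Helper9.SRG.Facts (gr G a b) := by
  have hn : ∀ v : Ω, (gr G a b).neighborFinset v = nb G a b v := by
    intro v
    ext y
    rw [SimpleGraph.mem_neighborFinset, h.gr_adj, mem_nb]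
  refine ⟨h.card, ?_, ?_, ?_⟩
  · intro v
    rw [hn, h.card_nb]
  · intro v w hvw
    rw [hn, hn]
    exact h.lambda_zero' (h.gr_adj.mp hvw)
  · intro v w hne hvw
    rw [hn, hn]
    exact h.mu_six' hne (fun hc => hvw (h.gr_adj.mpr hc))

/-- the elements of the group as automorphisms of the orbital graph. -/
def toAut (h : R3 G a b c) : ↥G →* (gr G a b ≃g gr G a b) where
  toFun g :=
    { toEquiv := g.1
      map_rel_iff' := by
        intro x y
        show (gr G a b).Adj (g.1 x) (g.1 y) ↔ (gr G a b).Adj x y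
        rw [h.gr_adj, h.gr_adj, adjR_smul g.2] }
  map_one' := rfl
  map_mul' _ _ := rfl

theorem toAut_apply (h : R3 G a b c) (g : ↥G) (x : Ω) : toAut h g x = g.1 x := rfl

theorem toAut_injective (h : R3 G a b c) : Function.Injective (toAut h) := by
  intro g g' hgg
  apply Subtype.ext
  ext x
  have := congrArg (fun f => f x) hgg
  exact this

end Cfsg.Agent.Helper9.HSRec
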