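import Mathlib
import Cfsg.Agent.S1586
import Cfsg.Agent.S0431
import Cfsg.Agent.Helper9.SRG.Main
import Cfsg.Agent.Helper9.HSRec.Rank3d

set_option autoImplicit false

/-!
Two permutation groups of degree 100 satisfying the rank 3 hypotheses, both of order 44352000, are
isomorphic.
-/

namespace Cfsg.Agent.Helper9.HSRec

open Cfsg Cfsg.Agent.Helper9.SRG Cfsg.Agent.Helper9.HSG Cfsg.Agent.Helper9.Steiner

/-- the automorphism group of a graph with the parameters (100, 22, 0, 6). -/
theorem aut_facts {V : Type*} [Fintype V] [DecidableEq V] {Γ : SimpleGraph V}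
    [DecidableRel Γ.Adj] (hF : Facts Γ) :
    Nat.card (Γ ≃g Γ) = 88704000 ∧ ∃ H : Subgroup (Γ ≃g Γ), IsHS H := by
  have hne : Nonempty V := by
    rw [← Fintype.card_pos_iff, hF.card]
    norm_num
  obtain ⟨v0⟩ := hne
  let ψ := autIsoCongr (isoPB hF v0)
  constructor
  · rw [Nat.card_congr ψ.toEquiv]
    exact Cfsg.Agent.S1586.result (card_points hF v0) (steiner hF v0)
  · obtain ⟨H', hH'⟩ := Cfsg.Agent.S0431.result (card_points hF v0) (steiner hF v0)
    refine ⟨H'.map ψ.symm.toMonoidHom, ?_, ?_⟩
    · haveI := hH'.1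
      exact (ψ.symm.subgroupMap H').symm.isSimpleGroup_congr.2 inferInstance
    · exact (Nat.card_congr (ψ.symm.subgroupMap H').toEquiv).symm.trans hH'.2

/-- every graph with the parameters is isomorphic to the standard one. -/
theorem iso_std' {U : Type*} [Fintype U] [DecidableEq U] {Δ : SimpleGraph U} [DecidableRel Δ.Adj]
    (hΔ : Facts Δ) : Nonempty (Δ ≃g pointBlockGraph (stdSet D3622M.P)) := by
  have hne : Nonempty U := by
    rw [← Fintype.card_pos_iff, hΔ.card]
    norm_num
  obtain ⟨v0⟩ := hne
  obtain ⟨e, he⟩ := iso_std_of_checked D3622M.checked (card_points hΔ v0) (steiner hΔ v0)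
  have i1 := isoPB hΔ v0
  have i2 := pbgCongr e (blockSet Δ v0)
  rw [he] at i2
  exact ⟨i1.trans i2⟩

/-- any two graphs with the parameters are isomorphic. -/
theorem iso_facts {V W : Type*} [Fintype V] [DecidableEq V] [Fintype W] [DecidableEq W]
    {Γ : SimpleGraph V} {Γ' : SimpleGraph W} [DecidableRel Γ.Adj] [DecidableRel Γ'.Adj]
    (hF : Facts Γ) (hF' : Facts Γ') : Nonempty (Γ ≃g Γ') := by
  obtain ⟨i⟩ := iso_std' hF
  obtain ⟨i'⟩ := iso_std' hF'
  exact ⟨i.trans i'.symm⟩

/-- a subgroup of index two of a group with a simple subgroup of index two. -/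
theorem eq_of_index_two {A : Type*} [Group A] [Finite A] (H K : Subgroup A) [IsSimpleGroup H]
    (hH : 2 < Nat.card H) (hcard : Nat.card K = Nat.card H) (hA : Nat.card A = 2 * Nat.card H) :
    K = H := by
  have hKi : K.index = 2 := by
    have := Subgroup.card_mul_index K
    rw [hcard, hA] at this
    have hpos : 0 < Nat.card H := Nat.card_pos
    nlinarith
  have hKn : K.Normal := Subgroup.normal_of_index_eq_two hKi
  have hdvd : K.relIndex H ∣ 2 := hKi ▸ Subgroup.relIndex_dvd_index_of_normal K H
  have hcases : K.relIndex H = 1 ∨ K.relIndex H = 2 := by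
    have := Nat.le_of_dvd (by norm_num) hdvd
    have hpos : 0 < K.relIndex H := Nat.pos_of_dvd_of_pos hdvd (by norm_num)
    interval_cases (K.relIndex H)
    · left; rfl
    · right; rfl
  rcases hcases with h1 | h2
  · have hle : H ≤ K := Subgroup.relIndex_eq_one.mp h1
    exact (Subgroup.eq_of_le_of_card_ge hle (le_of_eq hcard)).symm
  · exfalso
    have hn : (K.subgroupOf H).Normal := Subgroup.normal_of_index_eq_two h2
    rcases hn.eq_bot_or_eq_top with h0 | h0
    · have : (K.subgroupOf H).index = Nat.card H := by rw [h0, Subgroup.index_bot]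
      rw [Subgroup.relIndex] at h2
      omega
    · have : (K.subgroupOf H).index = 1 := by rw [h0, Subgroup.index_top]
      rw [Subgroup.relIndex] at h2
      omega

end Cfsg.Agent.Helper9.HSRec
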