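import Mathlib
import Cfsg.Agent.Helper9.HSRec.Unique

set_option autoImplicit false

/-!
Two permutation groups of degree 100 satisfying the rank 3 hypotheses, both of order 44352000, are
isomorphic.
-/

namespace Cfsg.Agent.Helper9.HSRec

open Cfsg Cfsg.Agent.Helper9.SRG Cfsg.Agent.Helper9.HSG

theorem main_iso {Ω Ω' : Type*} [Fintype Ω] [DecidableEq Ω] [Fintype Ω'] [DecidableEq Ω']
    {G : Subgroup (Equiv.Perm Ω)} {a b c : Ω} (h : R3 G a b c) (hc : Nat.card G = 44352000)
    {G' : Subgroup (Equiv.Perm Ω')} {a' b' c' : Ω'} (h' : R3 G' a' b' c')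
    (hc' : Nat.card G' = 44352000) : Nonempty (↥G ≃* ↥G') := by
  classical
  have hF := h.facts
  have hF' := h'.facts
  obtain ⟨ψ⟩ := iso_facts hF' hF
  obtain ⟨hA, H, hHs, hHc⟩ := aut_facts hF
  have hfin : Finite (gr G a b ≃g gr G a b) := Nat.finite_of_card_ne_zero (by rw [hA]; norm_num)
  haveI := hHs
  let f1 : ↥G →* (gr G a b ≃g gr G a b) := toAut h
  let f2 : ↥G' →* (gr G a b ≃g gr G a b) := (autIsoCongr ψ).toMonoidHom.comp (toAut h')
  have hf1 : Function.Injective f1 := toAut_injective h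
  have hf2 : Function.Injective f2 := (autIsoCongr ψ).injective.comp (toAut_injective h')
  have e1 : ↥G ≃* ↥f1.range := MonoidHom.ofInjective hf1
  have e2 : ↥G' ≃* ↥f2.range := MonoidHom.ofInjective hf2
  have k1 : f1.range = H := by
    apply eq_of_index_two H f1.range (by rw [hHc]; norm_num)
    · rw [← Nat.card_congr e1.toEquiv, hc, hHc]
    · rw [hA, hHc]
  have k2 : f2.range = H := by
    apply eq_of_index_two H f2.range (by rw [hHc]; norm_num)
    · rw [← Nat.card_congr e2.toEquiv, hc', hHc]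
    · rw [hA, hHc]
  exact ⟨(e1.trans (MulEquiv.subgroupCongr (k1.trans k2.symm))).trans e2.symm⟩

end Cfsg.Agent.Helper9.HSRec
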