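import Mathlib
import Cfsg.Agent.Helper9.HSRec.MainIso
import Cfsg.Agent.Helper9.HSRec.DC22

set_option autoImplicit false

/-!
From the hypotheses on a transitive group of degree 100 with point stabilizer isomorphic to a group
with the double coset property to the rank 3 hypotheses.
-/

namespace Cfsg.Agent.Helper9.HSRec

open Cfsg Cfsg.Agent.Helper9.M22Sub

variable {Ω : Type*} [Fintype Ω] [DecidableEq Ω]

theorem orbit_stabP (G : Subgroup (Equiv.Perm Ω)) (a x : Ω) :
    MulAction.orbit ↥(stabP G a) x = MulAction.orbit ↥(MulAction.stabilizer ↥G a) x := by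
  ext y
  simp only [MulAction.mem_orbit_iff]
  constructor
  · rintro ⟨g, rfl⟩
    obtain ⟨hg1, hg2⟩ := mem_stabP.mp g.2
    exact ⟨⟨⟨g.1, hg1⟩, by rw [MulAction.mem_stabilizer_iff]; exact hg2⟩, rfl⟩
  · rintro ⟨g, rfl⟩
    have hg2 : g.1 • a = a := g.2
    exact ⟨⟨g.1.1, mem_stabP.mpr ⟨g.1.2, hg2⟩⟩, rfl⟩

theorem r3_of_hyp (hΩ : Fintype.card Ω = 100) (G : Subgroup (Equiv.Perm Ω))
    [MulAction.IsPretransitive G Ω] (a : Ω) {M : Type*} [Group M] (hM : DC M 22)
    (e : MulAction.stabilizer G a ≃* M) (hMcard : Nat.card M = 443520) (b c : Ω)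
    (hb : (MulAction.orbit (MulAction.stabilizer G a) b).ncard = 22)
    (hc : (MulAction.orbit (MulAction.stabilizer G a) c).ncard = 77) :
    R3 G a b c ∧ Nat.card G = 44352000 := by
  constructor
  · refine ⟨hΩ, ?_, ?_, ?_, ?_⟩
    · intro x y
      obtain ⟨g, hg⟩ := MulAction.exists_smul_eq G x y
      exact ⟨g.1, g.2, hg⟩
    · rw [card_orbF, orbit_stabP, hb]
    · rw [card_orbF, orbit_stabP, hc]
    · intro y y' hy hy' hyb hyb'
      have hdc : DC ↥(MulAction.stabilizer G a) 22 := hM.of_equiv e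
      obtain ⟨s0, hs0, rfl⟩ := mem_orbF.mp hy
      obtain ⟨s0', hs0', rfl⟩ := mem_orbF.mp hy'
      obtain ⟨h1, h2⟩ := mem_stabP.mp hs0
      obtain ⟨h1', h2'⟩ := mem_stabP.mp hs0'
      let s : ↥(MulAction.stabilizer G a) := ⟨⟨s0, h1⟩, by rw [MulAction.mem_stabilizer_iff]; exact h2⟩
      let s' : ↥(MulAction.stabilizer G a) :=
        ⟨⟨s0', h1'⟩, by rw [MulAction.mem_stabilizer_iff]; exact h2'⟩
      let K : Subgroup ↥(MulAction.stabilizer G a) := MulAction.stabilizer _ b
      have hKi : K.index = 22 := by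
        rw [MulAction.index_stabilizer, hb]
      have hsK : s ∉ K := by
        intro hcon
        rw [MulAction.mem_stabilizer_iff] at hcon
        exact hyb hcon
      have hsK' : s' ∉ K := by
        intro hcon
        rw [MulAction.mem_stabilizer_iff] at hcon
        exact hyb' hcon
      obtain ⟨k, hk, k', hk', hkk⟩ := hdc K hKi s s' hsK hsK'
      have hkb : k • b = b := hk
      have hkb' : k' • b = b := hk'
      have hka : k.1 • a = a := k.2
      refine ⟨k.1.1, k.1.2, hka, hkb, ?_⟩
      have : s' • b = (k * s * k') • b := by rw [hkk]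
      rw [mul_smul, mul_smul, hkb'] at this
      exact this.symm
  · have h4 := Subgroup.card_mul_index (MulAction.stabilizer G a)
    rw [MulAction.index_stabilizer, MulAction.orbit_eq_univ, Set.ncard_univ,
      Nat.card_eq_fintype_card (α := Ω), hΩ, Nat.card_congr e.toEquiv, hMcard] at h4
    omega

end Cfsg.Agent.Helper9.HSRec
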