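import Mathlib
import Cfsg.Agent.Helper9.HSRec.Bridge

set_option autoImplicit false

/-!
A faithful transitive action on 100 points gives a group of permutations with the same properties.
-/

namespace Cfsg.Agent.Helper9.HSRec

open Cfsg

theorem r3_of_action {K X : Type*} [Group K] [MulAction K X] [FaithfulSMul K X]
    [MulAction.IsPretransitive K X] [Fintype X] [DecidableEq X] (hX : Fintype.card X = 100) (a : X)
    {M : Type*} [Group M] (hM : DC M 22) (e : MulAction.stabilizer K a ≃* M)
    (hMcard : Nat.card M = 443520) (b c : X)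
    (hb : (MulAction.orbit (MulAction.stabilizer K a) b).ncard = 22)
    (hc : (MulAction.orbit (MulAction.stabilizer K a) c).ncard = 77) :
    ∃ G' : Subgroup (Equiv.Perm X), Nonempty (K ≃* ↥G') ∧ R3 G' a b c ∧
      Nat.card G' = 44352000 := by
  let φ : K →* Equiv.Perm X := MulAction.toPermHom K X
  have hφ : Function.Injective φ := MulAction.toPerm_injective
  let eG : K ≃* ↥φ.range := MonoidHom.ofInjective hφ
  have heG : ∀ (k : K) (x : X), (eG k : Equiv.Perm X) x = k • x := fun k x => rfl
  have hsm : ∀ (g : ↥φ.range) (x : X), g • x = (g : Equiv.Perm X) x := fun g x => rfl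
  haveI : MulAction.IsPretransitive ↥φ.range X := by
    refine ⟨fun x y => ?_⟩
    obtain ⟨k, hk⟩ := MulAction.exists_smul_eq K x y
    exact ⟨eG k, hk⟩
  -- the stabilizers correspond
  let eS : ↥(MulAction.stabilizer ↥φ.range a) ≃* ↥(MulAction.stabilizer K a) :=
    { toFun := fun s => ⟨eG.symm s.1, by
        rw [MulAction.mem_stabilizer_iff]
        have h1 : s.1 • a = a := s.2
        have h2 := heG (eG.symm s.1) a
        rw [eG.apply_symm_apply] at h2
        rw [← h2]
        exact h1⟩
      invFun := fun k => ⟨eG k.1, by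
        rw [MulAction.mem_stabilizer_iff, hsm, heG]
        exact k.2⟩
      left_inv := fun s => by
        apply Subtype.ext
        exact eG.apply_symm_apply s.1
      right_inv := fun k => by
        apply Subtype.ext
        exact eG.symm_apply_apply k.1
      map_mul' := fun s t => by
        apply Subtype.ext
        exact map_mul eG.symm s.1 t.1 }
  have horb : ∀ x : X, MulAction.orbit ↥(MulAction.stabilizer ↥φ.range a) x =
      MulAction.orbit ↥(MulAction.stabilizer K a) x := by
    intro x
    ext y
    simp only [MulAction.mem_orbit_iff]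
    constructor
    · rintro ⟨s, rfl⟩
      refine ⟨eS s, ?_⟩
      show (eG.symm s.1) • x = s.1 • x
      rw [← heG, eG.apply_symm_apply]
      rfl
    · rintro ⟨k, rfl⟩
      exact ⟨eS.symm k, rfl⟩
  obtain ⟨h1, h2⟩ := r3_of_hyp hX φ.range a hM (eS.trans e) hMcard b c
    (by rw [horb, hb]) (by rw [horb, hc])
  exact ⟨φ.range, ⟨eG⟩, h1, h2⟩

end Cfsg.Agent.Helper9.HSRec
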