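import Mathlib
import Cfsg.Prelude.Def_Spor_Conway
import Cfsg.Agent.Helper9.Leech.HSSimple3
import Cfsg.Agent.Helper9.HSRec.Action

set_option autoImplicit false

/-!
The joint stabiliser of two vectors of sum of squares 48 with inner product `-32` acting on the 100
attached minimal vectors satisfies the rank 3 hypotheses.
-/

namespace Cfsg.Agent.Helper9.HSRec

open Cfsg Cfsg.Agent.Helper9.Leech Cfsg.Agent.Helper9.Golay
open scoped Pointwise

/-- the two descriptions of the stabilizer of two points. -/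
def m22Equiv : ↥(MulAction.stabilizer M24 (none : GolayPt) ⊓
    MulAction.stabilizer M24 (some 0 : GolayPt)) ≃* ↥Spor.M22 where
  toFun x := ⟨x.1.1, mem_M22_iff.mpr ⟨x.1.2, (Subgroup.mem_inf.mp x.2).1,
    (Subgroup.mem_inf.mp x.2).2⟩⟩
  invFun x := ⟨⟨x.1, (mem_M22_iff.mp x.2).1⟩,
    Subgroup.mem_inf.mpr ⟨(mem_M22_iff.mp x.2).2.1, (mem_M22_iff.mp x.2).2.2⟩⟩
  left_inv _ := rfl
  right_inv _ := rfl
  map_mul' _ _ := rfl

section

variable (v w : ↥leechLattice) (hv : sqNorm (v : GolayPt → ℤ) = 48)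
  (hw : sqNorm (w : GolayPt → ℤ) = 48)
  (hvw : dotInt (v : GolayPt → ℤ) (w : GolayPt → ℤ) = -32)

include hv hw hvw

theorem hs_sub22 (a : ↥(hsPts v w)) :
    {y : ↥(hsPts v w) | dotInt ((a : ↥leechLattice) : GolayPt → ℤ)
      ((y : ↥leechLattice) : GolayPt → ℤ) = 8}.ncard = 22 := by
  refine Eq.trans ?_ (hs_valency v w a.1 hv hw hvw a.2)
  have e : {y : ↥(hsPts v w) | dotInt ((a : ↥leechLattice) : GolayPt → ℤ)
      ((y : ↥leechLattice) : GolayPt → ℤ) = 8} = Subtype.val ⁻¹'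
      {y : ↥leechLattice | (sqNorm (y : GolayPt → ℤ) = 32 ∧
        dotInt (v : GolayPt → ℤ) (y : GolayPt → ℤ) = 24 ∧
        dotInt (w : GolayPt → ℤ) (y : GolayPt → ℤ) = -24) ∧
        dotInt ((a : ↥leechLattice) : GolayPt → ℤ) (y : GolayPt → ℤ) = 8} := by
    ext y
    constructor
    · intro h
      exact ⟨y.2, h⟩
    · intro h
      exact h.2
  rw [e]
  apply Set.ncard_preimage_of_injective_subset_range Subtype.val_injective
  intro y hy
  exact ⟨⟨y, hy.1⟩, rfl⟩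

theorem hs_sub77 (a : ↥(hsPts v w)) :
    {y : ↥(hsPts v w) | y ≠ a ∧ dotInt ((a : ↥leechLattice) : GolayPt → ℤ)
      ((y : ↥leechLattice) : GolayPt → ℤ) ≠ 8}.ncard = 77 := by
  refine Eq.trans ?_ (hs_covalency v w a.1 hv hw hvw a.2)
  have e : {y : ↥(hsPts v w) | y ≠ a ∧ dotInt ((a : ↥leechLattice) : GolayPt → ℤ)
      ((y : ↥leechLattice) : GolayPt → ℤ) ≠ 8} = Subtype.val ⁻¹'
      {y : ↥leechLattice | (sqNorm (y : GolayPt → ℤ) = 32 ∧
        dotInt (v : GolayPt → ℤ) (y : GolayPt → ℤ) = 24 ∧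
        dotInt (w : GolayPt → ℤ) (y : GolayPt → ℤ) = -24) ∧ y ≠ a.1 ∧
        dotInt ((a : ↥leechLattice) : GolayPt → ℤ) (y : GolayPt → ℤ) ≠ 8} := by
    ext y
    constructor
    · intro h
      exact ⟨y.2, fun hc => h.1 (Subtype.ext hc), h.2⟩
    · intro h
      exact ⟨fun hc => h.2.1 (congrArg Subtype.val hc), h.2.2⟩
  rw [e]
  apply Set.ncard_preimage_of_injective_subset_range Subtype.val_injective
  intro y hy
  exact ⟨⟨y, hy.1⟩, rfl⟩

omit hv hw hvw in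
theorem hs_dot_self (a : ↥(hsPts v w)) : dotInt ((a : ↥leechLattice) : GolayPt → ℤ)
    ((a : ↥leechLattice) : GolayPt → ℤ) ≠ 8 := by
  rw [dot_self, (mem_hsPts.mp a.2).1]
  norm_num

omit hv hw hvw in
theorem hs_dot_stab (a y : ↥(hsPts v w)) (s : ↥(MulAction.stabilizer ↥(hsGrp v w) a)) :
    dotInt ((a : ↥leechLattice) : GolayPt → ℤ)
      (((s • y : ↥(hsPts v w)) : ↥leechLattice) : GolayPt → ℤ) =
    dotInt ((a : ↥leechLattice) : GolayPt → ℤ) ((y : ↥leechLattice) : GolayPt → ℤ) := by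
  have hs : s.1 • a = a := s.2
  have hs' : (s.1 : ↥Co0) • (a : ↥leechLattice) = a := congrArg Subtype.val hs
  have e : ((s • y : ↥(hsPts v w)) : ↥leechLattice) = (s.1 : ↥Co0) • (y : ↥leechLattice) := rfl
  rw [e]
  conv_lhs => rw [← hs']
  exact co0_dot _ _ _

theorem hs_orbit22 (a b : ↥(hsPts v w)) (hb : dotInt ((a : ↥leechLattice) : GolayPt → ℤ)
    ((b : ↥leechLattice) : GolayPt → ℤ) = 8) :
    (MulAction.orbit ↥(MulAction.stabilizer ↥(hsGrp v w) a) b).ncard = 22 := by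
  rw [← hs_sub22 v w hv hw hvw a]
  congr 1
  ext y
  rw [MulAction.mem_orbit_iff, Set.mem_ofPred_eq]
  have hba : b ≠ a := by
    rintro rfl
    exact hs_dot_self v w b hb
  constructor
  · rintro ⟨s, rfl⟩
    rw [hs_dot_stab, hb]
  · intro hy
    have hya : y ≠ a := by
      rintro rfl
      exact hs_dot_self v w y hy
    obtain ⟨k, hk, hky⟩ := hs_stab_trans v w hv hw hvw a b y hba hya ⟨fun _ => hy, fun _ => hb⟩
    exact ⟨⟨k, hk⟩, hky⟩

theorem hs_orbit77 (a c : ↥(hsPts v w)) (hca : c ≠ a)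
    (hc : dotInt ((a : ↥leechLattice) : GolayPt → ℤ)
    ((c : ↥leechLattice) : GolayPt → ℤ) ≠ 8) :
    (MulAction.orbit ↥(MulAction.stabilizer ↥(hsGrp v w) a) c).ncard = 77 := by
  rw [← hs_sub77 v w hv hw hvw a]
  congr 1
  ext y
  rw [MulAction.mem_orbit_iff, Set.mem_ofPred_eq]
  constructor
  · rintro ⟨s, rfl⟩
    rw [hs_dot_stab]
    refine ⟨?_, hc⟩
    intro hcon
    apply hca
    have hs : s • a = a := s.2
    have : s • c = s • a := by rw [hcon, hs]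
    exact smul_left_cancel s this
  · rintro ⟨hya, hy⟩
    obtain ⟨k, hk, hky⟩ := hs_stab_trans v w hv hw hvw a c y hca hya
      ⟨fun h => absurd h hc, fun h => absurd h hy⟩
    exact ⟨⟨k, hk⟩, hky⟩

theorem hs_r3 [Fintype ↥(hsPts v w)] [DecidableEq ↥(hsPts v w)] :
    ∃ (G' : Subgroup (Equiv.Perm ↥(hsPts v w))) (a b c : ↥(hsPts v w)),
      Nonempty (↥(hsGrp v w) ≃* ↥G') ∧ R3 G' a b c ∧ Nat.card G' = 44352000 := by
  haveI := hs_pretrans v w hv hw hvw
  haveI := hs_faithful v w hv hw hvw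
  have hcard := hs_card_pts v w hv hw hvw
  have hX : Fintype.card ↥(hsPts v w) = 100 := by
    rw [← Nat.card_eq_fintype_card, hcard]
  obtain ⟨a⟩ : Nonempty ↥(hsPts v w) := by
    rw [← Fintype.card_pos_iff, hX]
    norm_num
  obtain ⟨b, hb⟩ : {y : ↥(hsPts v w) | dotInt ((a : ↥leechLattice) : GolayPt → ℤ)
      ((y : ↥leechLattice) : GolayPt → ℤ) = 8}.Nonempty := by
    apply Set.nonempty_of_ncard_ne_zero
    rw [hs_sub22 v w hv hw hvw a]
    norm_num
  obtain ⟨c, hca, hc⟩ : {y : ↥(hsPts v w) | y ≠ a ∧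
      dotInt ((a : ↥leechLattice) : GolayPt → ℤ)
      ((y : ↥leechLattice) : GolayPt → ℤ) ≠ 8}.Nonempty := by
    apply Set.nonempty_of_ncard_ne_zero
    rw [hs_sub77 v w hv hw hvw a]
    norm_num
  obtain ⟨g, h1, h2, h3⟩ := hs_triple_to_std v w a.1 hv hw hvw a.2
  let e : ↥(MulAction.stabilizer ↥(hsGrp v w) a) ≃* ↥Spor.M22 :=
    (hsStabEquiv v w a g h1 h2 h3).trans (stab3Equiv.symm.trans m22Equiv)
  obtain ⟨G', hG', hr, hcG⟩ := r3_of_action hX a dc_M22 e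
    Cfsg.Agent.Helper9.OutM22.card_M22 b c (hs_orbit22 v w hv hw hvw a b hb)
    (hs_orbit77 v w hv hw hvw a c hca hc)
  exact ⟨G', a, b, c, hG', hr, hcG⟩

end

end Cfsg.Agent.Helper9.HSRec
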