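import Mathlib
import Cfsg.Prelude.Def_Spor_Conway
import Cfsg.Agent.Helper9.Leech.HS5
import Cfsg.Agent.Helper9.HSRec.Model

set_option autoImplicit false

/-!
The Higman–Sims group of the definitions as the joint stabiliser of two vectors of sum of squares 48.
-/

namespace Cfsg.Agent.Helper9.HSRec

open Cfsg Cfsg.Agent.Helper9.Leech Cfsg.Agent.Helper9.Golay
open scoped Pointwise

/-- the first vector. -/
def vS : ↥leechLattice := Spor.leechV

/-- the second vector. -/
def wS : ↥leechLattice := -(Spor.leechV + Spor.leechU')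

theorem sqNorm_vS : sqNorm ((vS : ↥leechLattice) : GolayPt → ℤ) = 48 := by
  show sqNorm Spor.vecV = 48
  unfold sqNorm Spor.vecV
  decide +kernel

theorem sqNorm_wS : sqNorm ((wS : ↥leechLattice) : GolayPt → ℤ) = 48 := by
  show sqNorm (-(Spor.vecV + Spor.vecU')) = 48
  unfold sqNorm Spor.vecV Spor.vecU'
  decide +kernel

theorem dot_vS_wS : dotInt ((vS : ↥leechLattice) : GolayPt → ℤ)
    ((wS : ↥leechLattice) : GolayPt → ℤ) = -32 := by
  show dotInt Spor.vecV (-(Spor.vecV + Spor.vecU')) = -32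
  unfold dotInt Spor.vecV Spor.vecU'
  decide +kernel

theorem mem_sporHS {f : Equiv.Perm ↥leechLattice} :
    f ∈ Spor.HS ↔ f ∈ Co0 ∧ f Spor.leechV = Spor.leechV ∧ f Spor.leechU' = Spor.leechU' := by
  unfold Spor.HS Spor.Co3
  rw [Subgroup.mem_inf, Subgroup.mem_inf, MulAction.mem_stabilizer_iff,
    MulAction.mem_stabilizer_iff, Equiv.Perm.smul_def, Equiv.Perm.smul_def]
  tauto

theorem smul_add' (g : ↥Co0) (x y : ↥leechLattice) : g • (x + y) = g • x + g • y := g.2.1 x y

theorem leechU'_eq : Spor.leechU' = -wS + -vS := by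
  unfold wS vS
  abel

/-- the Higman–Sims group as a joint stabiliser. -/
def sporHSEquiv : ↥Spor.HS ≃* ↥(hsGrp vS wS) where
  toFun f := ⟨⟨f.1, (mem_sporHS.mp f.2).1⟩, by
    obtain ⟨h0, h1, h2⟩ := mem_sporHS.mp f.2
    refine Subgroup.mem_inf.mpr ⟨?_, ?_⟩
    · rw [MulAction.mem_stabilizer_iff]
      exact h1
    · rw [MulAction.mem_stabilizer_iff]
      show (⟨f.1, h0⟩ : ↥Co0) • wS = wS
      unfold wS
      rw [smul_neg', smul_add']
      show -(f.1 Spor.leechV + f.1 Spor.leechU') = _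
      rw [h1, h2]⟩
  invFun g := ⟨g.1.1, by
    obtain ⟨h1, h2⟩ := hsGrp_smul g
    refine mem_sporHS.mpr ⟨g.1.2, h1, ?_⟩
    show g.1 • Spor.leechU' = Spor.leechU'
    rw [leechU'_eq, smul_add', smul_neg', smul_neg', h1, h2]⟩
  left_inv _ := rfl
  right_inv _ := rfl
  map_mul' _ _ := rfl

end Cfsg.Agent.Helper9.HSRec
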